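import Mathlib
import Cfsg.Agent.Lib.Helper45.TU.Geo1
import Cfsg.Agent.Lib.Helper45.TU.Geo2
import Cfsg.Agent.Lib.Helper45.TU.Geo3
import Cfsg.Agent.Lib.Helper45.TU.Geo4
import Cfsg.Agent.Lib.Helper45.TU.Pt

set_option autoImplicit false
set_option linter.unusedVariables false
set_option linter.unusedSectionVars false

namespace Cfsg.Agent.Lib.Helper45.TU

open Matrix hiding col row
open scoped Kronecker
open Cfsg.Agent.Lib.Helper99.Tens
open Cfsg.Agent.Lib.Helper99.TSp (Ind)


end Cfsg.Agent.Lib.Helper45.TU
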